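import Cfsg.Agent.H306.SY.TD4
import Cfsg.Agent.H301.SY.Rep

/-!
# S3846, the row `³D₄(q)` (task 1522, helper306)
-/

set_option autoImplicit false
set_option linter.style.haveILetI false
set_option linter.unusedSectionVars false

namespace Cfsg.Agent.H306.SY

open Cfsg Cfsg.Lie Subgroup Module Cfsg.Agent.H459.Iface Cfsg.Agent.H459.Rad Cfsg.Agent.H301.SY

/-- `M0` from `RepData`. -/
theorem m0_of_repData (hh : HH) {K : Type*} [Group K] [Finite K] {r p d : ℕ} [Fact r.Prime] [Fact p.Prime]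
    (hpr : p ≠ r) (h : RepData r d K) (hd : d + 1 < p) (x : K) (hx : orderOf x = p)
    (hcyc : ∀ P : Sylow p K, IsCyclic (P : Subgroup K)) (hF : ¬ FixR r (MulAut.conj x)) : M0 x := by
  obtain ⟨k, V, E, _, _, _, _, _, _, ρ, π, hk, hρ, hπ, hker, hdim⟩ := h
  exact m0_of_rep hh π hπ hker ρ hρ hpr (by rw [hdim]; exact hd) hcyc hx hF

/-- **The row `³D₄(q)`.** -/
theorem crow_tD4 (hh : Cfsg.Agent.H301.SY.HH) {K : Type*} [Group K] [Finite K] [IsSimpleGroup K] {F : Type} [Field F]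
    [Fintype F] {q r p : ℕ} [Fact r.Prime] [Fact p.Prime] [CharP F r] (hF : Fintype.card F = q ^ 3)
    (e : Nonempty (K ≃* Cfsg.Lie.twistedD4 F q)) (hp : 5 ≤ p) (hpr : p ≠ r) : Cfsg.Agent.H301.SY.CRow r p K :=
  crow_tD4_of hF e hp hpr fun h h9 x hx hcyc hfix => m0_of_repData hh hpr h h9 x hx hcyc hfix

end Cfsg.Agent.H306.SY

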