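import Cfsg.Agent.ChevalleyStructure.HMatDiagAll
import Cfsg.Agent.ChevalleyStructure.Elts
import Cfsg.Agent.GpExc.Field
import Cfsg.Agent.H129.TriD4
import Cfsg.Agent.S1035
import Cfsg.Agent.S1061
import Cfsg.Agent.S1067
import Mathlib.FieldTheory.Finite.Extension

/-!
# The exponent of the Sylow `p`-subgroups of `³D₄(q)`, `p ≥ 5` (helper306)

* `pow_split` : a subgroup `H` of index prime to `p` with `h ^ m = 1` for all `h ∈ H`: each `p`-element has `g ^ m = 1`;
* `D4_pow` : `p`-elements of `D₄(q)`, `q ≡ 1 mod p`, `p ≥ 5`, have order dividing `q - 1`;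
* `tw_pow` : `p`-elements of `³D₄(q)`, `p ∣ q⁶ - 1`, `p ≥ 5`, have order dividing `q⁶ - 1`;
* `not_cyclic` : the Sylow `5`- and `7`-subgroups of `³D₄(q)` are not cyclic.
-/

set_option autoImplicit false
set_option linter.style.haveILetI false

namespace Cfsg.Agent.H306.SY

open Cfsg Cfsg.Lie Cfsg.Lie.ChevalleyDatum Subgroup

universe u

/-- Elements of order a power of `p`, if a subgroup of index prime to `p` has exponent dividing `m`. -/
theorem pow_split {G : Type*} [Group G] [Finite G] {p m : ℕ} [hp : Fact p.Prime] (H : Subgroup G)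
    (hi : ¬ p ∣ H.index) (hH : ∀ h ∈ H, h ^ m = 1) {g : G} (hg : ∃ k : ℕ, orderOf g = p ^ k) : g ^ m = 1 := by
  obtain ⟨k, hk⟩ := hg
  have h1 : IsPGroup p (zpowers g) := IsPGroup.of_card (n := k) (by rw [Nat.card_zpowers, hk])
  obtain ⟨P, hP⟩ := h1.exists_le_sylow
  -- a Sylow subgroup in `H`
  obtain ⟨Q0⟩ : Nonempty (Sylow p H) := inferInstance
  have hQ0 : IsPGroup p ((Q0 : Subgroup H).map H.subtype) := Q0.isPGroup'.map _
  obtain ⟨Q, hQ⟩ := hQ0.exists_le_sylow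
  have hQe : (Q0 : Subgroup H).map H.subtype = (Q : Subgroup G) := by
    refine Subgroup.eq_of_le_of_card_ge hQ (le_of_eq ?_)
    rw [Nat.card_congr ((Q0 : Subgroup H).equivMapOfInjective H.subtype H.subtype_injective).toEquiv.symm]
    have e1 := Q.card_eq_multiplicity
    have e2 := Q0.card_eq_multiplicity
    rw [e1, e2, ← H.card_mul_index, Nat.factorization_mul Nat.card_pos.ne'
      Subgroup.index_ne_zero_of_finite, Finsupp.add_apply, Nat.factorization_eq_zero_of_not_dvd hi, add_zero]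
  obtain ⟨c, rfl⟩ := MulAction.exists_smul_eq G Q P
  have h2 : g ∈ ((c • Q : Sylow p G) : Subgroup G) := hP (mem_zpowers g)
  rw [Sylow.coe_subgroup_smul] at h2
  obtain ⟨y, hy, h3⟩ := h2
  have h4 : y ∈ H := by
    have h5 : y ∈ (Q0 : Subgroup H).map H.subtype := by rw [hQe]; exact hy
    obtain ⟨z, -, rfl⟩ := h5
    exact z.2
  have h5 : c * y * c⁻¹ = g := h3
  rw [← h5, conj_pow, hH y h4, mul_one, mul_inv_cancel]

section

variable {F : Type u} [Field F] [Fintype F]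

theorem diag_pow {D : ChevalleyDatum} (hD : D ∈ [chevG2, chevB2, chevD4, chevF4, chevE6, chevE7, chevE8])
    {g : GL D.Idx F} (hg : g ∈ D.diagonalSubgroup F) : g ^ (Fintype.card F - 1) = 1 := by
  obtain ⟨χ, h⟩ := ChevalleyStructure.HMatDiagAll.diagonalSubgroup_le_torus hD hg
  have hdet : IsUnit (Matrix.det (g : Matrix D.Idx D.Idx F)) := (Matrix.isUnit_iff_isUnit_det _).1 g.isUnit
  rw [h, Matrix.det_diagonal] at hdet
  refine Units.ext ?_
  rw [Units.val_pow_eq_pow_val, h, Matrix.diagonal_pow, Units.val_one, ← Matrix.diagonal_one]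
  congr 1
  funext i
  rw [Pi.pow_apply]
  refine FiniteField.pow_card_sub_one_eq_one _ ?_
  intro h0
  exact hdet.ne_zero (Finset.prod_eq_zero (Finset.mem_univ i) h0)


theorem inListD4 : chevD4 ∈ [chevG2, chevB2, chevD4, chevF4, chevE6, chevE7, chevE8] := by simp

/-- **`p`-elements of `D₄(q)`**, `p ≥ 5` dividing `q - 1`. -/
theorem D4_pow {p q : ℕ} [hp : Fact p.Prime] (hp5 : 5 ≤ p) (hq : Fintype.card F = q) (hpq : p ∣ q - 1)
    {g : ↥(chevD4.group F)} (hg : ∃ k : ℕ, orderOf g = p ^ k) : g ^ (q - 1) = 1 := by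
  have hq1 : 1 < q := by rw [← hq]; exact Fintype.one_lt_card
  have hle : chevD4.diagonalSubgroup F ≤ chevD4.group F := ChevalleyStructure.Elts.diagonal_le_group inListD4 F
  set H : Subgroup ↥(chevD4.group F) := (chevD4.diagonalSubgroup F).subgroupOf (chevD4.group F) with hH
  refine pow_split H ?_ ?_ hg
  · have h1 := S1061.result (F := F) hq
    have h2 := S1035.result (F := F) hq (chevD4, Nat.gcd 2 (q - 1) ^ 2) (by simp)
    have h2' : Nat.gcd 2 (q - 1) ^ 2 * Nat.card ↥(chevD4.diagonalSubgroup F) = (q - 1) ^ 4 := h2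
    have h3 : Nat.card H = Nat.card ↥(chevD4.diagonalSubgroup F) :=
      Nat.card_congr (Subgroup.subgroupOfEquivOfLe hle).toEquiv
    have h4 := H.card_mul_index
    rw [h3] at h4
    -- the index
    have hd0 : 0 < Nat.gcd 2 (q - 1) ^ 2 := Nat.pow_pos (Nat.gcd_pos_of_pos_left _ (by norm_num))
    have hq0 : 0 < q - 1 := by omega
    have e2 : q ^ 2 - 1 = (q - 1) * (q + 1) := by
      zify [Nat.one_le_pow 2 q (by omega), hq1.le]; ring
    have e4 : q ^ 4 - 1 = (q - 1) * ((q + 1) * (q ^ 2 + 1)) := by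
      zify [Nat.one_le_pow 4 q (by omega), hq1.le]; ring
    have e6 : q ^ 6 - 1 = (q - 1) * (1 + q + q ^ 2 + q ^ 3 + q ^ 4 + q ^ 5) := by
      zify [Nat.one_le_pow 6 q (by omega), hq1.le]; ring
    have h5 : H.index = q ^ 12 * (q + 1) * ((q + 1) * (q ^ 2 + 1)) * ((q + 1) * (q ^ 2 + 1)) *
        (1 + q + q ^ 2 + q ^ 3 + q ^ 4 + q ^ 5) := by
      have h6 : (q - 1) ^ 4 * H.index = (q - 1) ^ 4 * (q ^ 12 * (q + 1) * ((q + 1) * (q ^ 2 + 1)) *
          ((q + 1) * (q ^ 2 + 1)) * (1 + q + q ^ 2 + q ^ 3 + q ^ 4 + q ^ 5)) := by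
        rw [← h2', mul_assoc (Nat.gcd 2 (q - 1) ^ 2), h4, h1, h2', e2, e4, e6]
        ring
      exact Nat.eq_of_mul_eq_mul_left (Nat.pow_pos hq0) h6
    rw [h5]
    -- modulo `p`
    have hz : ((q : ℕ) : ZMod p) = 1 := by
      have h6 : ((q - 1 : ℕ) : ZMod p) = 0 := (ZMod.natCast_eq_zero_iff _ _).2 hpq
      rw [Nat.cast_sub hq1.le, Nat.cast_one, sub_eq_zero] at h6
      exact h6
    rw [← ZMod.natCast_eq_zero_iff]
    push_cast
    rw [hz]
    have h7 : ((1 : ZMod p) ^ 12 * (1 + 1) * ((1 + 1) * (1 ^ 2 + 1)) * ((1 + 1) * (1 ^ 2 + 1)) *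
        (1 + 1 + 1 ^ 2 + 1 ^ 3 + 1 ^ 4 + 1 ^ 5)) = ((192 : ℕ) : ZMod p) := by push_cast; norm_num
    rw [h7, ZMod.natCast_eq_zero_iff]
    have h8 : (192 : ℕ) = 2 ^ 6 * 3 := by norm_num
    rw [h8]
    intro h9
    rcases (Nat.Prime.dvd_mul hp.out).1 h9 with h9 | h9
    · have := (Nat.prime_dvd_prime_iff_eq hp.out Nat.prime_two).1 (hp.out.dvd_of_dvd_pow h9)
      omega
    · have := (Nat.prime_dvd_prime_iff_eq hp.out Nat.prime_three).1 h9
      omega
  · intro h hh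
    have h1 : (h : GL chevD4.Idx F) ∈ chevD4.diagonalSubgroup F := Subgroup.mem_subgroupOf.1 hh
    have h2 := diag_pow inListD4 h1
    rw [hq] at h2
    exact Subtype.ext h2

end

/-- a quadratic extension -/
theorem exists_quadratic (F : Type) [Field F] [Fintype F] : ∃ (E : Type) (_ : Field E) (_ : Fintype E) (_ : F →+* E),
    Fintype.card E = Fintype.card F ^ 2 := by
  obtain ⟨p, hp⟩ := CharP.exists F
  haveI : Fact p.Prime := ⟨CharP.char_is_prime F p⟩
  have h := FiniteField.natCard_extension F p 2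
  haveI : Finite (FiniteField.Extension F p 2) := inferInstance
  haveI : Fintype (FiniteField.Extension F p 2) := Fintype.ofFinite _
  refine ⟨FiniteField.Extension F p 2, inferInstance, inferInstance, algebraMap F (FiniteField.Extension F p 2), ?_⟩
  rw [← Nat.card_eq_fintype_card, ← Nat.card_eq_fintype_card, h]

/-- **`p`-elements of `³D₄(q)`**, `p ≥ 5` dividing `q⁶ - 1`. -/
theorem tw_pow {F : Type} [Field F] [Fintype F] {p q : ℕ} [hp : Fact p.Prime] (hp5 : 5 ≤ p)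
    (hq : IsPrimePow q) (hF : Fintype.card F = q ^ 3) (hpq : p ∣ q ^ 6 - 1)
    {g : ↥(twistedD4 F q)} (hg : ∃ k : ℕ, orderOf g = p ^ k) : g ^ (q ^ 6 - 1) = 1 := by
  obtain ⟨E, _, _, f, hE⟩ := exists_quadratic F
  have hE' : Fintype.card E = q ^ 6 := by rw [hE, hF]; ring
  let φ : ↥(twistedD4 F q) →* ↥(chevD4.group E) :=
    (GpExc.Field.emb inListD4 f).comp (Subgroup.inclusion (H129.TriD4.tw_le hq hF))
  have hinj : Function.Injective φ :=
    (GpExc.Field.emb_injective inListD4 f).comp (Subgroup.inclusion_injective _)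
  apply hinj
  rw [map_pow, map_one]
  refine D4_pow hp5 hE' hpq ?_
  obtain ⟨k, hk⟩ := hg
  exact ⟨k, by rw [orderOf_injective _ hinj, hk]⟩

theorem IsPrimePow_of {F : Type} [Field F] [Fintype F] {q : ℕ} (hF : Fintype.card F = q ^ 3) : IsPrimePow q := by
  have h := FiniteField.isPrimePow_card F
  rw [hF] at h
  exact (isPrimePow_pow_iff (by norm_num)).1 h

/-- **The Sylow `p`-subgroups of `³D₄(q)` are not cyclic**, if `p ∣ (q² - 1)(q⁸ + q⁴ + 1)` and `p ∣ q⁶ - 1`. -/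
theorem not_cyclic {F : Type} [Field F] [Fintype F] {p q : ℕ} [hp : Fact p.Prime] (hp5 : 5 ≤ p)
    (hF : Fintype.card F = q ^ 3) (h6 : p ∣ q ^ 6 - 1) (h2 : p ∣ (q ^ 2 - 1) * (q ^ 8 + q ^ 4 + 1))
    (P : Sylow p ↥(twistedD4 F q)) : ¬ IsCyclic (P : Subgroup ↥(twistedD4 F q)) := by
  intro hc
  have hq := IsPrimePow_of hF
  obtain ⟨g, hg⟩ := hc.exists_generator
  have h3 : orderOf (g : ↥(twistedD4 F q)) = Nat.card P := by
    rw [Subgroup.orderOf_coe]
    exact orderOf_eq_card_of_forall_mem_zpowers hg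
  have h4 := P.card_eq_multiplicity
  have h5 := tw_pow hp5 hq hF h6 (g := (g : ↥(twistedD4 F q))) ⟨_, h3.trans h4⟩
  have h7 : p ^ (Nat.card ↥(twistedD4 F q)).factorization p ∣ q ^ 6 - 1 := by
    rw [← h4, ← h3]
    exact orderOf_dvd_of_pow_eq_one h5
  have hq2 := hq.two_le
  have h60 : q ^ 6 - 1 ≠ 0 := by
    have : 1 < q ^ 6 := Nat.one_lt_pow (by norm_num) hq2
    omega
  have h20 : q ^ 2 - 1 ≠ 0 := by
    have : 1 < q ^ 2 := Nat.one_lt_pow (by norm_num) hq2
    omega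
  rw [S1067.result hq hF] at h7
  have h8 := (Nat.Prime.pow_dvd_iff_le_factorization hp.out h60).1 h7
  have e1 : q ^ 12 * (q ^ 2 - 1) * (q ^ 6 - 1) * (q ^ 8 + q ^ 4 + 1) =
      (q ^ 12 * ((q ^ 2 - 1) * (q ^ 8 + q ^ 4 + 1))) * (q ^ 6 - 1) := by ring
  have e2 : (q ^ 2 - 1) * (q ^ 8 + q ^ 4 + 1) ≠ 0 := mul_ne_zero h20 (by positivity)
  have e3 : q ^ 12 ≠ 0 := pow_ne_zero _ (by omega)
  rw [e1, Nat.factorization_mul (mul_ne_zero e3 e2) h60, Finsupp.add_apply, Nat.factorization_mul e3 e2,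
    Finsupp.add_apply] at h8
  have h9 : 0 < ((q ^ 2 - 1) * (q ^ 8 + q ^ 4 + 1)).factorization p := hp.out.factorization_pos_of_dvd e2 h2
  omega

/-- **The Sylow `5`- and `7`-subgroups of `³D₄(q)` are not cyclic.** -/
theorem not_cyclic_small {F : Type} [Field F] [Fintype F] {p q : ℕ} [hp : Fact p.Prime] (hp5 : p = 5 ∨ p = 7)
    (hF : Fintype.card F = q ^ 3) (hpq : ¬ p ∣ q) (hd : p ∣ Nat.card ↥(twistedD4 F q))
    (P : Sylow p ↥(twistedD4 F q)) : ¬ IsCyclic (P : Subgroup ↥(twistedD4 F q)) := by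
  have hq := IsPrimePow_of hF
  have hq2 := hq.two_le
  rw [S1067.result hq hF] at hd
  have e2 : q ^ 2 - 1 + 1 = q ^ 2 := Nat.sub_add_cancel (Nat.one_le_pow _ _ (by omega))
  have e6 : q ^ 6 - 1 + 1 = q ^ 6 := Nat.sub_add_cancel (Nat.one_le_pow _ _ (by omega))
  have hd' : p ∣ (q ^ 2 - 1) * (q ^ 6 - 1) * (q ^ 8 + q ^ 4 + 1) := by
    rw [show q ^ 12 * (q ^ 2 - 1) * (q ^ 6 - 1) * (q ^ 8 + q ^ 4 + 1) =
      q ^ 12 * ((q ^ 2 - 1) * (q ^ 6 - 1) * (q ^ 8 + q ^ 4 + 1)) by ring] at hd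
    rcases (Nat.Prime.dvd_mul hp.out).1 hd with h | h
    · exact absurd (hp.out.dvd_of_dvd_pow h) hpq
    · exact h
  have key : p ∣ q ^ 6 - 1 ∧ p ∣ (q ^ 2 - 1) * (q ^ 8 + q ^ 4 + 1) := by
    have o2 : 1 ≤ q ^ 2 := Nat.one_le_pow _ _ (by omega)
    have o6 : 1 ≤ q ^ 6 := Nat.one_le_pow _ _ (by omega)
    rcases hp5 with rfl | rfl
    · have m2 := Nat.pow_mod q 2 5
      have m4 := Nat.pow_mod q 4 5
      have m6 := Nat.pow_mod q 6 5
      have m8 := Nat.pow_mod q 8 5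
      have hr : q % 5 < 5 := Nat.mod_lt _ (by norm_num)
      have hr0 : 1 ≤ q % 5 := Nat.one_le_iff_ne_zero.2 fun h => hpq (Nat.dvd_of_mod_eq_zero h)
      generalize q % 5 = r at *
      have h5 : 5 ∣ q ^ 2 - 1 := by
        rcases (Nat.Prime.dvd_mul hp.out).1 hd' with h | h
        · rcases (Nat.Prime.dvd_mul hp.out).1 h with h | h
          · exact h
          · interval_cases r <;> norm_num at m2 m4 m6 m8 <;> omega
        · interval_cases r <;> norm_num at m2 m4 m6 m8 <;> omega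
      refine ⟨?_, Dvd.dvd.mul_right h5 _⟩
      interval_cases r <;> norm_num at m2 m4 m6 m8 <;> omega
    · have m2 := Nat.pow_mod q 2 7
      have m4 := Nat.pow_mod q 4 7
      have m6 := Nat.pow_mod q 6 7
      have m8 := Nat.pow_mod q 8 7
      have hr : q % 7 < 7 := Nat.mod_lt _ (by norm_num)
      have hr0 : 1 ≤ q % 7 := Nat.one_le_iff_ne_zero.2 fun h => hpq (Nat.dvd_of_mod_eq_zero h)
      generalize q % 7 = r at *
      refine ⟨?_, ?_⟩
      · interval_cases r <;> norm_num at m2 m4 m6 m8 <;> omega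
      · have h7 : 7 ∣ q ^ 2 - 1 ∨ 7 ∣ q ^ 8 + q ^ 4 + 1 := by
          interval_cases r <;> norm_num at m2 m4 m6 m8 <;> omega
        rcases h7 with h | h
        · exact Dvd.dvd.mul_right h _
        · exact Dvd.dvd.mul_left h _
  exact not_cyclic (by omega) hF key.1 key.2 P

end Cfsg.Agent.H306.SY
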