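import Cfsg.Agent.H306.SY.Split
import Cfsg.Agent.H301.SY.Base
import Cfsg.Agent.S1082

/-!
# S3846, the row `³D₄(q)` (task 1522, helper306)
-/

set_option autoImplicit false
set_option linter.style.haveILetI false
set_option linter.unusedSectionVars false

namespace Cfsg.Agent.H306.SY

open Cfsg Cfsg.Lie Subgroup Module Cfsg.Agent.H459.Iface Cfsg.Agent.H459.Rad Cfsg.Agent.H301.SY

/-- `K` has a central extension `E` with a faithful representation of degree `d` over a field of characteristic `r`. -/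
def RepData (r d : ℕ) (K : Type*) [Group K] : Prop :=
  ∃ (k V E : Type) (_ : Field k) (_ : AddCommGroup V) (_ : Module k V) (_ : FiniteDimensional k V) (_ : Group E)
    (_ : Finite E) (ρ : Representation k E V) (π : E →* K), CharP k r ∧ Function.Injective ρ ∧
      Function.Surjective π ∧ π.ker ≤ center E ∧ finrank k V = d

/-- Subgroups of `PΩ(Q)`. -/
theorem repData_of_hom {ι : Type} [Fintype ι] [DecidableEq ι] {F : Type} [Field F] [Finite F] {r : ℕ} [CharP F r]
    (Q : (ι → F) → F) {K : Type*} [Group K] (f : K →* POmega F Q) (hf : Function.Injective f) :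
    RepData r (Fintype.card ι) K := by
  set π₀ : ↥(Omega F Q) →* POmega F Q := QuotientGroup.mk' _ with hπ₀
  set E : Subgroup ↥(Omega F Q) := f.range.comap π₀ with hE
  -- the map onto `K`
  let e : K ≃* f.range := MonoidHom.ofInjective hf
  let π₁ : E →* f.range := (π₀.comp E.subtype).codRestrict f.range fun x => x.2
  have h1 : ∀ x : E, ((π₁ x : f.range) : POmega F Q) = π₀ x := fun x => rfl
  refine ⟨F, ι → F, E, inferInstance, inferInstance, inferInstance, inferInstance, inferInstance, inferInstance,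
    ((Matrix.toLinAlgEquiv' (R := F) (n := ι)).toAlgHom.toMonoidHom.comp
      ((Units.coeHom (Matrix ι ι F)).comp ((isometryGroup F Q).subtype.comp ((Omega F Q).subtype.comp E.subtype)))),
    e.symm.toMonoidHom.comp π₁, inferInstance, ?_, ?_, ?_, ?_⟩
  · refine (Matrix.toLinAlgEquiv' (R := F) (n := ι)).injective.comp (Units.val_injective.comp ?_)
    exact (isometryGroup F Q).subtype_injective.comp ((Omega F Q).subtype_injective.comp E.subtype_injective)
  · intro k
    obtain ⟨y, hy⟩ := QuotientGroup.mk'_surjective _ (f k)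
    refine ⟨⟨y, ⟨k, hy.symm⟩⟩, ?_⟩
    change e.symm (π₁ _) = k
    rw [MulEquiv.symm_apply_eq]
    exact Subtype.ext hy
  · intro x hx
    have h2 : π₁ x = 1 := by
      have h3 : e.symm (π₁ x) = 1 := hx
      rwa [map_eq_one_iff _ e.symm.injective] at h3
    have h3 : π₀ x = 1 := by rw [← h1, h2]; rfl
    have h4 : (x : ↥(Omega F Q)) ∈ center ↥(Omega F Q) := (QuotientGroup.eq_one_iff _).1 h3
    rw [mem_center_iff] at h4 ⊢
    intro y
    exact Subtype.ext (h4 y)
  · exact finrank_fintype_fun_eq_card F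

variable {K : Type*} [Group K] [Finite K] {F : Type} [Field F] [Fintype F] {q r p : ℕ}
  [Fact r.Prime] [hp : Fact p.Prime] [CharP F r]

omit [Finite K] [Fact r.Prime] in
/-- `³D₄(q)` has a central extension with a faithful representation of degree `8`. -/
theorem repData_tD4 (hF : Fintype.card F = q ^ 3) (e : Nonempty (K ≃* ↥(twistedD4 F q))) : RepData r 8 K := by
  obtain ⟨e⟩ := e
  obtain ⟨e'⟩ := S1082.result (F := F)
  have hq := IsPrimePow_of hF
  have h := repData_of_hom (r := r) (Cfsg.quadFormPlus 4 F)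
    ((e'.toMonoidHom.comp (Subgroup.inclusion (H129.TriD4.tw_le hq hF))).comp e.toMonoidHom)
    ((e'.injective.comp (Subgroup.inclusion_injective _)).comp e.injective)
  have hc : Fintype.card (Fin 4 ⊕ Fin 4) = 8 := by simp
  rwa [hc] at h

/-- The row `³D₄(q)`, up to the lemma `m0_of_rep`. -/
theorem crow_tD4_of (hF : Fintype.card F = q ^ 3) (e : Nonempty (K ≃* ↥(twistedD4 F q)))
    (hp5 : 5 ≤ p) (hpr : p ≠ r)
    (hM : RepData r 8 K → 8 + 1 < p → ∀ x : K, orderOf x = p → (∀ P : Sylow p K, IsCyclic (P : Subgroup K)) →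
      ¬ FixR r (MulAut.conj x) → M0 x) : CRow r p K := by
  intro x hx hRC hcyc
  by_cases hfix : FixR r (MulAut.conj x)
  · exact Or.inl hfix
  have hpd : p ∣ Nat.card K := hx ▸ orderOf_dvd_natCard x
  by_cases h9 : 8 + 1 < p
  · exact Or.inr (Or.inl (hM (repData_tD4 hF e) h9 x hx hcyc hfix))
  exfalso
  have hp57 : p = 5 ∨ p = 7 := by
    have h1 := hp.out
    have h2 : p < 10 := by omega
    interval_cases p
    · exact Or.inl rfl
    · exact absurd h1 (by norm_num)
    · exact Or.inr rfl
    · exact absurd h1 (by norm_num)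
    · exact absurd h1 (by norm_num)
  obtain ⟨e⟩ := e
  have hpq : ¬ p ∣ q := by
    intro h
    obtain ⟨n, hn, hc⟩ := FiniteField.card F r
    have h1 : p ∣ r ^ (n : ℕ) := by
      rw [← hc, hF]
      exact dvd_pow h (by norm_num)
    exact hpr ((Nat.prime_dvd_prime_iff_eq hp.out hn).1 (hp.out.dvd_of_dvd_pow h1))
  obtain ⟨Q⟩ : Nonempty (Sylow p ↥(twistedD4 F q)) := inferInstance
  refine not_cyclic_small hp57 hF hpq (by rwa [← Nat.card_congr e.toEquiv]) Q ?_
  -- the Sylow subgroups of `K` are cyclic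
  have hQ : IsPGroup p ↥((Q : Subgroup ↥(twistedD4 F q)).map e.symm.toMonoidHom) := Q.isPGroup'.map _
  obtain ⟨P, hPQ⟩ := hQ.exists_le_sylow
  have := hcyc P
  have h2 : IsCyclic ↥((Q : Subgroup ↥(twistedD4 F q)).map e.symm.toMonoidHom) :=
    isCyclic_of_injective (Subgroup.inclusion hPQ) (Subgroup.inclusion_injective hPQ)
  have h3 : IsCyclic ↥(map (↑e.symm : ↥(twistedD4 F q) →* K) ↑Q) := h2
  exact isCyclic_of_surjective (e.symm.subgroupMap (Q : Subgroup ↥(twistedD4 F q))).symm
    (e.symm.subgroupMap (Q : Subgroup ↥(twistedD4 F q))).symm.surjective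

end Cfsg.Agent.H306.SY
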